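import Mathlib

/-! Passing from a faithful action to a group of permutations, keeping the half normaliser. -/

set_option autoImplicit false

open MulAction

namespace CfsgLib.Perm.NeumannTwin

theorem range_data {G Ω : Type*} [Group G] [Finite G] [MulAction G Ω] [FaithfulSMul G Ω] [Finite Ω]
    {p : ℕ} [Fact p.Prime] (htrans : IsPretransitive G Ω) (hins : ¬ Group.IsSolvable G)
    (P : Sylow p G) :
    ∃ (H : Subgroup (Equiv.Perm Ω)) (φ : G ≃* H) (PH : Sylow p H),
      IsPretransitive H Ω ∧ ¬ Group.IsSolvable H ∧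
      (∀ (g : G) (x : Ω), φ g • x = g • x) ∧
      Nat.card (Subgroup.normalizer ((PH : Subgroup H) : Set H)) =
        Nat.card (Subgroup.normalizer ((P : Subgroup G) : Set G)) := by
  let H : Subgroup (Equiv.Perm Ω) := (MulAction.toPermHom G Ω).range
  let φ : G ≃* H := MonoidHom.ofInjective (f := MulAction.toPermHom G Ω) MulAction.toPerm_injective
  have hsurj : Function.Surjective φ.toMonoidHom := φ.surjective
  refine ⟨H, φ, P.mapSurjective (f := φ.toMonoidHom) hsurj, ⟨fun x y => ?_⟩, fun h => hins ?_,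
    fun g x => rfl, ?_⟩
  · obtain ⟨g, hg⟩ := htrans.exists_smul_eq x y
    exact ⟨φ g, hg⟩
  · haveI := h
    exact Group.isSolvable_of_isSolvable_injective (f := φ.toMonoidHom) φ.injective
  · rw [show ((P.mapSurjective (f := φ.toMonoidHom) hsurj : Sylow p H) : Subgroup H) =
        (P : Subgroup G).map φ.toMonoidHom from Sylow.coe_mapSurjective hsurj P,
      ← Subgroup.map_equiv_normalizer_eq (P : Subgroup G) φ]
    exact Subgroup.card_map_of_injective φ.injective

theorem isMultiplyPretransitive_of_equiv {G H Ω : Type*} [Group G] [Group H] [MulAction G Ω]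
    [MulAction H Ω] (φ : G ≃* H) (hφ : ∀ (g : G) (x : Ω), φ g • x = g • x) {n : ℕ}
    (h : IsMultiplyPretransitive H Ω n) : IsMultiplyPretransitive G Ω n := by
  refine ⟨fun u v => ?_⟩
  obtain ⟨k, hk⟩ := h.exists_smul_eq u v
  obtain ⟨g, rfl⟩ := φ.surjective k
  exact ⟨g, Function.Embedding.ext fun i => (hφ g (u i)).symm.trans (DFunLike.congr_fun hk i)⟩

end CfsgLib.Perm.NeumannTwin
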