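import Mathlib
import Cfsg.Agent.Lib.Perm.ExtremelyPrimitiveSolvable

/-!
# Tools for Neumann's theorems on groups of twin prime degree

* `succ_pretransitive`: one more degree of transitivity from the stabiliser of a tuple.
* `false_of_coprime_rank_three`: a primitive group has no rank three with coprime unequal subdegrees.
* `orbit_of_index_two`: an odd orbit is also an orbit of a subgroup of index two.
* `card_stabilizer_dvd_of_solvable`: solvable groups of prime degree are affine.
-/

set_option autoImplicit false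

open MulAction
open scoped Pointwise

namespace CfsgLib.Perm.NeumannTwin

section Succ

variable {G Ω : Type*} [Group G] [MulAction G Ω]

theorem succ_pretransitive {k : ℕ} (hk : IsMultiplyPretransitive G Ω k)
    (h : ∀ (u : Fin k ↪ Ω) (z w : Ω), z ∉ Set.range u → w ∉ Set.range u →
      ∃ g : G, (∀ i, g • u i = u i) ∧ g • z = w) :
    IsMultiplyPretransitive G Ω (k + 1) := by
  refine ⟨fun u v => ?_⟩
  haveI := hk
  let u' : Fin k ↪ Ω := Fin.castSuccEmb.trans u
  let v' : Fin k ↪ Ω := Fin.castSuccEmb.trans v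
  obtain ⟨g, hg⟩ := exists_smul_eq G u' v'
  have hg' : ∀ i : Fin k, g • u i.castSucc = v i.castSucc := fun i => DFunLike.congr_fun hg i
  obtain ⟨s, hs, hsl⟩ := h v' (g • u (Fin.last k)) (v (Fin.last k))
    (by
      rintro ⟨i, hi⟩
      have h1 : g • u (Fin.last k) = g • u i.castSucc := hi.symm.trans (hg' i).symm
      exact (Fin.castSucc_lt_last i).ne (u.injective (MulAction.injective g h1)).symm)
    (by
      rintro ⟨i, hi⟩
      exact (Fin.castSucc_lt_last i).ne (v.injective hi))
  refine ⟨s * g, Function.Embedding.ext fun i => ?_⟩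
  show (s * g) • u i = v i
  rw [mul_smul]
  induction i using Fin.lastCases with
  | last => exact hsl
  | cast i => rw [hg']; exact hs i

end Succ

section RankThree

variable {K X : Type*} [Group K] [MulAction K X]

/-- A point function compatible with the action, constant on a set containing its argument, gives
a block. -/
theorem isBlock_of_equivariant (F : X → Set X) (hF : ∀ (k : K) u, F (k • u) = (fun v => k • v) '' F u)
    {C : Set X} (hC : ∀ u ∈ C, F u = C) : IsBlock K C := by
  rw [isBlock_iff_smul_eq_of_nonempty]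
  intro k hk
  obtain ⟨w, hw1, hw2⟩ := hk
  obtain ⟨u, hu, rfl⟩ := Set.mem_smul_set.1 hw1
  calc k • C = (fun v => k • v) '' F u := by rw [hC u hu]; rfl
    _ = F (k • u) := (hF k u).symm
    _ = C := hC _ hw2

theorem card_orbit_mul_card_stab [Finite K] [Finite X] (x v : X) :
    Nat.card (orbit ↥(stabilizer K x) v) * Nat.card ↥(stabilizer K x ⊓ stabilizer K v : Subgroup K) =
      Nat.card ↥(stabilizer K x) := by
  classical
  haveI := Fintype.ofFinite K
  haveI := Fintype.ofFinite X
  have e : Nat.card ↥(stabilizer ↥(stabilizer K x) v) =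
      Nat.card ↥(stabilizer K x ⊓ stabilizer K v : Subgroup K) :=
    Nat.card_congr
      { toFun := fun h => ⟨((h : ↥(stabilizer K x)) : K), (h : ↥(stabilizer K x)).2, h.2⟩
        invFun := fun h => ⟨⟨(h : K), h.2.1⟩, h.2.2⟩
        left_inv := fun h => rfl
        right_inv := fun h => rfl }
  rw [← e, Nat.card_eq_fintype_card, Nat.card_eq_fintype_card, Nat.card_eq_fintype_card]
  exact card_orbit_mul_card_stabilizer_eq_card_group _ v

/-- A primitive group has no point stabiliser with just two orbits of coprime and unequal lengths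
outside the point. -/
theorem false_of_coprime_rank_three [Finite K] [Finite X] (hprim : IsPreprimitive K X) {x a b : X}
    (hax : a ≠ x) (hbx : b ≠ x)
    (hcover : ∀ y, y ≠ x → y ∈ orbit ↥(stabilizer K x) a ∨ y ∈ orbit ↥(stabilizer K x) b)
    (hcop : (Nat.card (orbit ↥(stabilizer K x) a)).Coprime (Nat.card (orbit ↥(stabilizer K x) b)))
    (hne : Nat.card (orbit ↥(stabilizer K x) a) ≠ Nat.card (orbit ↥(stabilizer K x) b)) : False := by
  classical
  haveI := hprim
  set H := stabilizer K x with hH
  set A := orbit ↥H a with hA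
  set B := orbit ↥H b with hB
  have hab : b ∉ A := fun h => hne (congrArg (fun s : Set X => Nat.card s) (orbit_eq_iff.2 h).symm)
  have hxA : x ∉ A := by
    rintro ⟨h, hh⟩
    refine hax ?_
    have h1 : (h : K) • x = x := h.2
    exact MulAction.injective (h : K) (hh.trans h1.symm)
  have hxB : x ∉ B := by
    rintro ⟨h, hh⟩
    refine hbx ?_
    have h1 : (h : K) • x = x := h.2
    exact MulAction.injective (h : K) (hh.trans h1.symm)
  have hdisj : ∀ y ∈ A, y ∉ B := fun y hyA hyB =>
    hab (by rw [hA, ← orbit_eq_iff.2 hyA, orbit_eq_iff.2 hyB]; exact mem_orbit_self b)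
  let R : X → X → Prop := fun u v => ∃ k : K, k • x = u ∧ k • a = v
  have hRinv : ∀ (k : K) u v, R u v → R (k • u) (k • v) := by
    rintro k u v ⟨l, rfl, rfl⟩
    exact ⟨k * l, mul_smul _ _ _, mul_smul _ _ _⟩
  have hRiff : ∀ (k : K) u v, R (k • u) (k • v) ↔ R u v := fun k u v =>
    ⟨fun h => by simpa using hRinv k⁻¹ _ _ h, hRinv k u v⟩
  have hRx : ∀ v, R x v ↔ v ∈ A :=
    fun v => ⟨fun ⟨k, hk, hv⟩ => ⟨⟨k, hk⟩, hv⟩, fun ⟨h, hh⟩ => ⟨h, h.2, hh⟩⟩
  have hRne : ∀ u v, R u v → u ≠ v := by
    rintro u v ⟨k, rfl, rfl⟩ h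
    exact hax (MulAction.injective k h.symm)
  -- the two orbitals are self-paired
  have hsymm : ∀ u v, R u v → R v u := by
    obtain ⟨k, hk⟩ := exists_smul_eq K a x
    have hkx : k • x ≠ x := fun h => hax (MulAction.injective k (hk.trans h.symm))
    have hmem : k • x ∈ A := by
      rcases hcover _ hkx with h | h
      · exact h
      · exfalso
        apply hne
        have h1 : Nat.card (orbit ↥H (k • x)) = Nat.card B :=
          congrArg (fun s : Set X => Nat.card s) (orbit_eq_iff.2 h)
        rw [← h1]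
        have e : Nat.card ↥(stabilizer K x ⊓ stabilizer K (k • x) : Subgroup K) =
            Nat.card ↥(stabilizer K x ⊓ stabilizer K a : Subgroup K) := by
          refine Nat.card_congr
            { toFun := fun g => ⟨k⁻¹ * g * k, ?_, ?_⟩
              invFun := fun g => ⟨k * g * k⁻¹, ?_, ?_⟩
              left_inv := fun g => Subtype.ext (by simp [mul_assoc])
              right_inv := fun g => Subtype.ext (by simp [mul_assoc]) }
          · show (k⁻¹ * (g : K) * k) • x = x
            rw [mul_smul, mul_smul, g.2.2, inv_smul_smul]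
          · show (k⁻¹ * (g : K) * k) • a = a
            rw [mul_smul, mul_smul, hk, g.2.1, ← hk, inv_smul_smul]
          · show (k * (g : K) * k⁻¹) • x = x
            rw [mul_smul, mul_smul, show k⁻¹ • x = a by rw [← hk, inv_smul_smul], g.2.2, hk]
          · show (k * (g : K) * k⁻¹) • (k • x) = k • x
            rw [mul_smul, mul_smul, inv_smul_smul, g.2.1]
        have h2 := card_orbit_mul_card_stab (K := K) x a
        have h3 := card_orbit_mul_card_stab (K := K) x (k • x)
        rw [e] at h3
        exact Nat.eq_of_mul_eq_mul_right Nat.card_pos (h2.trans h3.symm)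
    rintro u v ⟨l, rfl, rfl⟩
    obtain ⟨h, hh⟩ := hmem
    refine ⟨l * k⁻¹ * h, ?_, ?_⟩
    · rw [mul_smul, mul_smul, show (h : K) • x = x from h.2, ← hk, inv_smul_smul]
    · have hh' : (h : K) • a = k • x := hh
      rw [mul_smul, mul_smul, hh', inv_smul_smul]
  -- the stabiliser is transitive on `A × B`
  have hpairs : ∀ a' ∈ A, ∀ b' ∈ B, ∃ h : ↥H, h • a = a' ∧ h • b = b' := by
    have hsub : ∀ o ∈ orbit ↥H ((a, b) : X × X), o ∈ A ×ˢ B := by
      rintro _ ⟨h, rfl⟩
      exact ⟨⟨h, rfl⟩, ⟨h, rfl⟩⟩
    have hcard : (A ×ˢ B).ncard ≤ (orbit ↥H ((a, b) : X × X)).ncard := by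
      rw [Set.ncard_prod, ← Nat.card_coe_set_eq, ← Nat.card_coe_set_eq, ← Nat.card_coe_set_eq]
      refine Nat.le_of_dvd ?_ (hcop.mul_dvd_of_dvd_of_dvd ?_ ?_)
      · haveI : Nonempty ↥(orbit ↥H ((a, b) : X × X)) := ⟨⟨_, mem_orbit_self _⟩⟩
        exact Nat.card_pos
      · rw [Nat.card_coe_set_eq, Nat.card_coe_set_eq, ← index_stabilizer, ← index_stabilizer]
        exact Subgroup.index_dvd_of_le fun h hh =>
          mem_stabilizer_iff.2 (congrArg Prod.fst (mem_stabilizer_iff.1 hh))
      · rw [Nat.card_coe_set_eq, Nat.card_coe_set_eq, ← index_stabilizer, ← index_stabilizer]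
        exact Subgroup.index_dvd_of_le fun h hh =>
          mem_stabilizer_iff.2 (congrArg Prod.snd (mem_stabilizer_iff.1 hh))
    have heq := Set.eq_of_subset_of_ncard_le hsub hcard
    intro a' ha' b' hb'
    have : ((a', b') : X × X) ∈ orbit ↥H ((a, b) : X × X) := heq.symm ▸ Set.mk_mem_prod ha' hb'
    obtain ⟨h, hh⟩ := this
    exact ⟨h, congrArg Prod.fst hh, congrArg Prod.snd hh⟩
  have hconst : ∀ a' ∈ A, ∀ b' ∈ B, (R a' b' ↔ R a b) := by
    intro a' ha' b' hb'
    obtain ⟨h, rfl, rfl⟩ := hpairs a' ha' b' hb'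
    exact hRiff (h : K) a b
  have hcardN : ∀ u : X, ({v | R u v} : Set X).ncard = A.ncard := by
    intro u
    obtain ⟨k, rfl⟩ := exists_smul_eq K x u
    rw [← Set.ncard_image_of_injective A (MulAction.injective k)]
    congr 1
    ext v
    constructor
    · intro h
      refine ⟨k⁻¹ • v, (hRx _).1 ?_, smul_inv_smul _ _⟩
      simpa using hRinv k⁻¹ _ _ h
    · rintro ⟨w, hw, rfl⟩
      exact hRinv k _ _ ((hRx w).2 hw)
  have hblock : ∀ C : Set X, IsBlock K C → x ∈ C → ∀ y ∈ C, y ≠ x → ∀ z, z ∉ C → False := by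
    intro C hC hxC y hyC hyx z hz
    rcases IsPreprimitive.isTrivialBlock_of_isBlock hC with h | h
    · exact hyx (h hyC hxC)
    · exact hz (h ▸ Set.mem_univ z)
  by_cases hRab : R a b
  · -- `{x} ∪ B` is a clique of the second orbital
    have hN : ∀ b' ∈ B, ({v | R b' v} : Set X) = A := by
      intro b' hb'
      refine (Set.eq_of_subset_of_ncard_le (fun a' ha' => ?_) (hcardN b').le).symm
      exact hsymm _ _ ((hconst a' ha' b' hb').2 hRab)
    refine hblock (insert x B) (isBlock_of_equivariant (fun u => {v | ¬ R u v}) ?_ ?_)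
      (Set.mem_insert x B) b (Set.mem_insert_of_mem _ (mem_orbit_self b)) hbx a ?_
    · intro k u
      ext v
      constructor
      · intro h
        exact ⟨k⁻¹ • v, fun h' => h (by simpa using hRinv k _ _ h'), smul_inv_smul _ _⟩
      · rintro ⟨w, hw, rfl⟩ h
        exact hw ((hRiff k u w).1 h)
    · intro u hu
      ext v
      simp only [Set.mem_setOf_eq, Set.mem_insert_iff]
      rcases Set.mem_insert_iff.1 hu with rfl | hu
      · constructor
        · intro h
          by_cases hv : v = u
          · exact Or.inl hv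
          · exact Or.inr ((hcover v hv).resolve_left fun h' => h ((hRx v).2 h'))
        · rintro (rfl | hv) h
          · exact hRne _ _ h rfl
          · exact hdisj v ((hRx v).1 h) hv
      · have hR : R u v ↔ v ∈ A := Set.ext_iff.1 (hN u hu) v
        constructor
        · intro h
          by_cases hv : v = x
          · exact Or.inl hv
          · exact Or.inr ((hcover v hv).resolve_left fun h' => h (hR.2 h'))
        · rintro (rfl | hv) h
          · exact hxA (hR.1 h)
          · exact hdisj v (hR.1 h) hv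
    · rw [Set.mem_insert_iff]
      rintro (h | h)
      · exact hax h
      · exact hdisj a (mem_orbit_self a) h
  · -- `{x} ∪ A` is a clique of the first orbital
    have hN : ∀ a' ∈ A, ({v | R a' v} : Set X) = insert x (A \ {a'}) := by
      intro a' ha'
      refine Set.eq_of_subset_of_ncard_le (fun v hv => ?_) ?_
      · by_cases hvx : v = x
        · exact Set.mem_insert_iff.2 (Or.inl hvx)
        · refine Set.mem_insert_iff.2 (Or.inr ⟨?_, fun h => hRne _ _ hv h.symm⟩)
          exact (hcover v hvx).resolve_right fun hvB => hRab ((hconst a' ha' v hvB).1 hv)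
      · rw [Set.ncard_insert_of_notMem (fun h => hxA h.1), Set.ncard_diff_singleton_of_mem ha',
          hcardN]
        have : 0 < A.ncard := (Set.ncard_pos (Set.toFinite _)).2 ⟨a, mem_orbit_self a⟩
        omega
    refine hblock (insert x A) (isBlock_of_equivariant (fun u => insert u {v | R u v}) ?_ ?_)
      (Set.mem_insert x A) a (Set.mem_insert_of_mem _ (mem_orbit_self a)) hax b ?_
    · intro k u
      ext v
      simp only [Set.mem_insert_iff, Set.mem_setOf_eq, Set.mem_image]
      constructor
      · intro h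
        refine ⟨k⁻¹ • v, ?_, smul_inv_smul _ _⟩
        rcases h with rfl | h
        · exact Or.inl (inv_smul_smul _ _)
        · exact Or.inr (by simpa using hRinv k⁻¹ _ _ h)
      · rintro ⟨w, rfl | hw, rfl⟩
        · exact Or.inl rfl
        · exact Or.inr (hRinv k _ _ hw)
    · intro u hu
      ext v
      simp only [Set.mem_insert_iff, Set.mem_setOf_eq]
      rcases Set.mem_insert_iff.1 hu with rfl | hu
      · rw [hRx]
      · have hR : R u v ↔ v ∈ insert x (A \ {u}) := Set.ext_iff.1 (hN u hu) v
        rw [hR, Set.mem_insert_iff, Set.mem_diff, Set.mem_singleton_iff]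
        constructor
        · rintro (rfl | h | h)
          · exact Or.inr hu
          · exact Or.inl h
          · exact Or.inr h.1
        · rintro (h | h)
          · exact Or.inr (Or.inl h)
          · exact (em (v = u)).imp id fun hne => Or.inr ⟨h, hne⟩
    · rw [Set.mem_insert_iff]
      rintro (h | h)
      · exact hbx h
      · exact hab h

end RankThree

section IndexTwo

variable {L X : Type*} [Group L] [MulAction L X]

/-- An orbit of odd length stays an orbit of any subgroup of index at most two. -/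
theorem orbit_of_index_two [Finite X] (M : Subgroup L) (hM : ∀ g h : L, g ∉ M → h ∉ M → g * h ∈ M)
    {z w : X} (hodd : Odd (Nat.card (orbit L z))) (hw : w ∈ orbit L z) :
    ∃ m ∈ M, m • z = w := by
  by_contra hc
  push Not at hc
  obtain ⟨g, hg⟩ := hw
  have hgM : g ∉ M := fun h => hc g h hg
  -- the orbit is the disjoint union of the `M`-orbit of `z` and its translate
  let O : Set X := (fun m : M => (m : L) • z) '' Set.univ
  let O' : Set X := (fun y => g • y) '' O
  have hU : (orbit L z : Set X) = O ∪ O' := by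
    ext v
    constructor
    · rintro ⟨h, rfl⟩
      by_cases hh : h ∈ M
      · exact Or.inl ⟨⟨h, hh⟩, trivial, rfl⟩
      · refine Or.inr ⟨(g⁻¹ * h) • z, ⟨⟨g⁻¹ * h, hM _ _ (fun h' => hgM ?_) hh⟩, trivial, rfl⟩, ?_⟩
        · simpa using M.inv_mem h'
        · show g • (g⁻¹ * h) • z = h • z
          rw [mul_smul, smul_inv_smul]
    · rintro (⟨m, -, rfl⟩ | ⟨_, ⟨m, -, rfl⟩, rfl⟩)
      · exact mem_orbit z (m : L)
      · exact ⟨g * m, mul_smul _ _ _⟩
  have hd : Disjoint O O' := by
    rw [Set.disjoint_left]
    rintro _ ⟨m, -, rfl⟩ ⟨_, ⟨m', -, rfl⟩, e⟩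
    have e' : g • (m' : L) • z = (m : L) • z := e
    -- `g m'⁻¹`-conjugation returns into `M`
    have h1 : g * (m' : L) * g⁻¹ ∈ M := by
      by_contra h
      have h2 : g * (m' : L) * g⁻¹ * g ∈ M := hM _ _ h hgM
      rw [inv_mul_cancel_right] at h2
      exact hgM (by simpa using M.mul_mem h2 (M.inv_mem m'.2))
    refine hc ((g * (m' : L) * g⁻¹)⁻¹ * m) (M.mul_mem (M.inv_mem h1) m.2) ?_
    rw [← hg, mul_smul, ← e', ← mul_smul, ← mul_smul]
    congr 1
    group
  have h2 : Nat.card (orbit L z) = O.ncard + O.ncard := by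
    rw [Nat.card_coe_set_eq, hU, Set.ncard_union_eq hd, Set.ncard_image_of_injective O
      (MulAction.injective g)]
  rw [h2] at hodd
  exact (Nat.not_odd_iff_even.2 ⟨_, rfl⟩) hodd

end IndexTwo

section Solvable

variable {G Ω : Type*} [Group G] [MulAction G Ω]

theorem card_stabilizer_dvd_of_solvable [Finite G] [FaithfulSMul G Ω] [Finite Ω]
    [Group.IsSolvable G] [IsPretransitive G Ω] {q : ℕ} (hq : q.Prime) (hΩ : Nat.card Ω = q) (α : Ω) :
    Nat.card ↥(stabilizer G α) ∣ q - 1 := by
  classical
  haveI := Fact.mk hq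
  have hprim : IsPreprimitive G Ω := IsPreprimitive.of_prime_card (hΩ.symm ▸ hq)
  haveI : Nontrivial G := by
    haveI : Nontrivial Ω := Finite.one_lt_card_iff_nontrivial.1 (hΩ ▸ hq.one_lt)
    obtain ⟨x, y, hxy⟩ := exists_pair_ne Ω
    obtain ⟨g, hg⟩ := exists_smul_eq G x y
    exact ⟨⟨g, 1, fun h => hxy (by rw [← hg, h, one_smul])⟩⟩
  obtain ⟨N, hNn, -, -, -, hbij, -, hfaith⟩ :=
    CfsgLib.Perm.ExtremelyPrimitive.exists_regular_normal hprim α
  haveI := hNn
  have hN : Nat.card N = q := by rw [Nat.card_eq_of_bijective _ hbij, hΩ]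
  haveI := isCyclic_of_prime_card hN
  let f : ↥(stabilizer G α) →* MulAut N := MulAut.conjNormal.comp (stabilizer G α).subtype
  have hf : Function.Injective f := by
    rw [injective_iff_map_eq_one]
    intro h hh
    refine Subtype.ext (hfaith h h.2 fun n hn => ?_)
    have h1 : (h : G) * n * (h : G)⁻¹ = n := by
      have := congrArg (fun φ : MulAut N => ((φ ⟨n, hn⟩ : N) : G)) hh
      simpa [f] using this
    exact mul_inv_eq_iff_eq_mul.1 h1
  refine (Subgroup.card_dvd_of_injective f hf).trans (dvd_of_eq ?_)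
  rw [IsCyclic.card_mulAut, hN, Nat.totient_prime hq]

end Solvable

end CfsgLib.Perm.NeumannTwin
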