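import Cfsg.Agent.Lib.Perm.NeumannTwin.Basic
import Cfsg.Agent.S0675
import Cfsg.Agent.S0676
import Cfsg.Agent.S3611
import Cfsg.Agent.S3612

/-!
# Groups of degree `p = q + 2` with half Sylow normaliser are five-fold transitive

* `no_swap`, `three`, `pair_step`, `five`.
-/

set_option autoImplicit false

open MulAction

namespace CfsgLib.Perm.NeumannTwin

variable {Ω : Type*} [Fintype Ω] [DecidableEq Ω] {p : ℕ} [hp : Fact p.Prime]
  (G : Subgroup (Equiv.Perm Ω)) [IsPretransitive G Ω]

/-- A half Sylow normaliser rules out transpositions. -/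
theorem no_swap (hΩ : Nat.card Ω = p) (hp2 : p ≠ 2) (P : Sylow p G)
    (hN : 2 * Nat.card ↥(Subgroup.normalizer ((P : Subgroup G) : Set G)) = p * (p - 1))
    {τ : Equiv.Perm Ω} (hτ : τ ∈ G) : ¬ τ.IsSwap := by
  classical
  intro hsw
  have hc : Fintype.card Ω = p := by rw [← hΩ, Nat.card_eq_fintype_card]
  have htop : G = ⊤ := by
    refine Equiv.Perm.subgroup_eq_top_of_swap_mem (hc.symm ▸ hp.out) ?_ hτ hsw
    haveI : Nonempty Ω := Fintype.card_pos_iff.1 (hc.symm ▸ hp.out.pos)
    obtain ⟨x⟩ := ‹Nonempty Ω›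
    have h := MulAction.index_stabilizer_of_transitive G x
    rw [Nat.card_eq_fintype_card] at h
    rw [← h, ← Nat.card_eq_fintype_card]
    exact Subgroup.index_dvd_card _
  have hG : Nat.card G = p.factorial := by
    rw [htop, Subgroup.card_top, Nat.card_perm, hΩ]
  have hidx : (Subgroup.normalizer ((P : Subgroup G) : Set G)).index = Nat.card (Sylow p G) :=
    (Sylow.card_eq_index_normalizer P).symm
  have hmul := Subgroup.index_mul_card (Subgroup.normalizer ((P : Subgroup G) : Set G))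
  rw [hidx, hG] at hmul
  have hp3 : 3 ≤ p := by have := hp.out.two_le; omega
  obtain ⟨m, rfl⟩ : ∃ m, p = m + 2 := ⟨p - 2, by omega⟩
  have hn : Nat.card (Sylow (m + 2) G) = 2 * m.factorial := by
    refine Nat.eq_of_mul_eq_mul_right (show 0 < (m + 2) * (m + 2 - 1) from Nat.mul_pos (by omega) (by omega)) ?_
    calc Nat.card (Sylow (m + 2) G) * ((m + 2) * (m + 2 - 1))
        = 2 * (Nat.card (Sylow (m + 2) G) *
            Nat.card ↥(Subgroup.normalizer ((P : Subgroup G) : Set G))) := by rw [← hN]; ring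
      _ = 2 * (m + 2).factorial := by rw [hmul]
      _ = 2 * m.factorial * ((m + 2) * (m + 2 - 1)) := by
        rw [show m + 2 - 1 = m + 1 by omega, Nat.factorial_succ, Nat.factorial_succ]; ring
  have h1 := card_sylow_modEq_one (m + 2) G
  rw [← ZMod.natCast_eq_natCast_iff, hn] at h1
  push_cast at h1
  have hw : (((m + 1).factorial : ℕ) : ZMod (m + 2)) = -1 := by
    have := ZMod.wilsons_lemma (m + 2)
    rwa [show m + 2 - 1 = m + 1 by omega] at this
  rw [Nat.factorial_succ] at hw
  push_cast at hw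
  have hm1 : ((m : ZMod (m + 2)) + 1) = -1 := by
    have : ((m + 2 : ℕ) : ZMod (m + 2)) = 0 := ZMod.natCast_self _
    push_cast at this
    linear_combination this
  rw [hm1] at hw
  have hm : ((m.factorial : ℕ) : ZMod (m + 2)) = 1 := by linear_combination -hw
  rw [hm, mul_one] at h1
  have h2 : ((1 : ℕ) : ZMod (m + 2)) = 0 := by push_cast; linear_combination h1
  rw [ZMod.natCast_eq_zero_iff] at h2
  exact absurd (Nat.le_of_dvd one_pos h2) (by omega)

/-- Twin prime degree gives triple transitivity. -/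
theorem three (hΩ : Nat.card Ω = p) (hins : ¬ Group.IsSolvable G) (P : Sylow p G)
    (hN : 2 * Nat.card ↥(Subgroup.normalizer ((P : Subgroup G) : Set G)) = p * (p - 1))
    {q : ℕ} (hq : q.Prime) (hq5 : 5 < q) (hpq : p = q + 2) : IsMultiplyPretransitive G Ω 3 := by
  classical
  have hc : Fintype.card Ω = p := by rw [← hΩ, Nat.card_eq_fintype_card]
  have hodd : Odd p := hp.out.odd_of_ne_two (by omega)
  by_cases hp3 : p % 4 = 3
  swap
  · refine Cfsg.Agent.S0676.result hc G hins P ?_
    obtain ⟨k, hk⟩ := hodd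
    have hk2 : p - 1 = 4 * (k / 2) := by omega
    rw [hk2] at hN
    exact ⟨p * (k / 2), by linarith⟩
  rcases Cfsg.Agent.S3611.result (G := G) (Ω := Ω) p hp.out hΩ inferInstance hins P hN hp3 with h | h4
  · exact h
  have h2 : IsMultiplyPretransitive G Ω 2 :=
    (Cfsg.Agent.S0675.result (hc ▸ hp.out) G).resolve_left hins
  refine succ_pretransitive h2 fun u z w hz hw => ?_
  have hab : u 0 ≠ u 1 := fun h => absurd (u.injective h) (by decide)
  generalize hu0 : u 0 = a at hab
  generalize hu1 : u 1 = b at hab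
  have hz' : z ≠ a ∧ z ≠ b := ⟨fun h => hz ⟨0, hu0.trans h.symm⟩, fun h => hz ⟨1, hu1.trans h.symm⟩⟩
  have hw' : w ≠ a ∧ w ≠ b := ⟨fun h => hw ⟨0, hu0.trans h.symm⟩, fun h => hw ⟨1, hu1.trans h.symm⟩⟩
  by_contra hnone
  push Not at hnone
  set S := stabilizer G a ⊓ stabilizer G b with hS
  let mk : Ω → orbitRel.Quotient S Ω := fun v => Quotient.mk (orbitRel S Ω) v
  have hzw : mk w ≠ mk z := by
    intro h
    obtain ⟨s, hs⟩ := Quotient.exact h
    refine hnone (s : G) (fun i => ?_) hs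
    fin_cases i
    · show (s : G) • u 0 = u 0
      rw [hu0]; exact s.2.1
    · show (s : G) • u 1 = u 1
      rw [hu1]; exact s.2.2
  have hfix : ∀ (v y : Ω), (v = a ∨ v = b) → mk v = mk y → v = y := by
    intro v y hv h
    obtain ⟨s, hs⟩ := Quotient.exact h
    have hsv : (s : G) • y = v := hs
    refine (MulAction.injective (s : G) ((hsv.trans ?_))).symm
    rcases hv with rfl | rfl
    · exact s.2.1.symm
    · exact s.2.2.symm
  -- all points off `a, b` lie in the orbits of `z` and `w`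
  have hcov : ∀ y, y ≠ a → y ≠ b → mk y = mk z ∨ mk y = mk w := by
    intro y hya hyb
    by_contra hn
    push Not at hn
    haveI := Fintype.ofFinite (orbitRel.Quotient S Ω)
    have e : Fintype.card (orbitRel.Quotient S Ω) = 4 := by
      rw [← Nat.card_eq_fintype_card]; exact h4 a b hab
    have hcard : ({mk a, mk b, mk z, mk w, mk y} : Finset (orbitRel.Quotient S Ω)).card = 5 := by
      rw [Finset.card_insert_of_notMem, Finset.card_insert_of_notMem, Finset.card_insert_of_notMem,
        Finset.card_pair (Ne.symm hn.2)]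
      · simp only [Finset.mem_insert, Finset.mem_singleton, not_or]
        exact ⟨Ne.symm hzw, Ne.symm hn.1⟩
      · simp only [Finset.mem_insert, Finset.mem_singleton, not_or]
        exact ⟨fun h => hz'.2 (hfix b z (Or.inr rfl) h).symm,
          fun h => hw'.2 (hfix b w (Or.inr rfl) h).symm, fun h => hyb (hfix b y (Or.inr rfl) h).symm⟩
      · simp only [Finset.mem_insert, Finset.mem_singleton, not_or]
        exact ⟨fun h => hab (hfix a b (Or.inl rfl) h), fun h => hz'.1 (hfix a z (Or.inl rfl) h).symm,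
          fun h => hw'.1 (hfix a w (Or.inl rfl) h).symm, fun h => hya (hfix a y (Or.inl rfl) h).symm⟩
    have := Finset.card_le_univ ({mk a, mk b, mk z, mk w, mk y} : Finset (orbitRel.Quotient S Ω))
    omega
  let X := ↥(SubMulAction.ofStabilizer G a)
  have mem : ∀ y, y ≠ a → y ∈ SubMulAction.ofStabilizer G a := fun y hy => by
    rwa [SubMulAction.mem_ofStabilizer_iff]
  have nmem : ∀ y : X, (y : Ω) ≠ a := fun y => by
    have := y.2
    rwa [SubMulAction.mem_ofStabilizer_iff] at this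
  let x0 : X := ⟨b, mem b hab.symm⟩
  let z0 : X := ⟨z, mem z hz'.1⟩
  let w0 : X := ⟨w, mem w hw'.1⟩
  have hprim : IsPreprimitive ↥(stabilizer G a) X :=
    Cfsg.Agent.S3612.result (G := G) (Ω := Ω) p hp.out hΩ inferInstance hins P hN (by omega) a
  have hto : ∀ y y' : X, mk (y : Ω) = mk (y' : Ω) →
      y ∈ orbit ↥(stabilizer (stabilizer G a) x0) y' := by
    intro y y' h
    obtain ⟨s, hs⟩ := Quotient.exact h
    exact ⟨⟨⟨(s : G), s.2.1⟩, Subtype.ext s.2.2⟩, Subtype.ext hs⟩
  have hfrom : ∀ y y' : X, y ∈ orbit ↥(stabilizer (stabilizer G a) x0) y' →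
      mk (y : Ω) = mk (y' : Ω) := by
    rintro y y' ⟨s, hs⟩
    refine Quotient.sound ⟨⟨((s : stabilizer G a) : G), (s : stabilizer G a).2, ?_⟩, ?_⟩
    · exact congrArg Subtype.val (s.2 : (s : stabilizer G a) • x0 = x0)
    · exact congrArg Subtype.val hs
  set A := orbit ↥(stabilizer (stabilizer G a) x0) z0 with hA
  set B := orbit ↥(stabilizer (stabilizer G a) x0) w0 with hB
  have hun : (Set.univ : Set X) \ {x0} = A ∪ B := by
    ext y
    simp only [Set.mem_diff, Set.mem_univ, true_and, Set.mem_singleton_iff, Set.mem_union]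
    constructor
    · intro hy
      rcases hcov y (nmem y) (fun h => hy (Subtype.ext h)) with h | h
      · exact Or.inl (hto y z0 h)
      · exact Or.inr (hto y w0 h)
    · rintro (h | h) rfl
      · exact hz'.2 (hfix b z (Or.inr rfl) (hfrom _ _ h)).symm
      · exact hw'.2 (hfix b w (Or.inr rfl) (hfrom _ _ h)).symm
  have hdisj : Disjoint A B := Set.disjoint_left.2 fun y h h' =>
    hzw ((hfrom _ _ h').symm.trans (hfrom _ _ h))
  have hsum : Nat.card A + Nat.card B = q := by
    have h1 : Nat.card X = p - 1 := by rw [SubMulAction.nat_card_ofStabilizer_eq, hΩ]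
    rw [Nat.card_coe_set_eq, Nat.card_coe_set_eq, ← Set.ncard_union_eq hdisj, ← hun,
      Set.ncard_diff_singleton_of_mem (Set.mem_univ _), Set.ncard_univ, h1]
    omega
  have hA0 : 0 < Nat.card A := by haveI : Nonempty A := ⟨⟨z0, mem_orbit_self _⟩⟩; exact Nat.card_pos
  have hB0 : 0 < Nat.card B := by haveI : Nonempty B := ⟨⟨w0, mem_orbit_self _⟩⟩; exact Nat.card_pos
  refine false_of_coprime_rank_three hprim (x := x0) (a := z0) (b := w0)
    (fun h => hz'.2 (congrArg Subtype.val h)) (fun h => hw'.2 (congrArg Subtype.val h))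
    (fun y hy => ?_) ?_ ?_
  · have hy' : y ∈ (Set.univ : Set X) \ {x0} := ⟨trivial, hy⟩
    rwa [hun] at hy'
  · have hcop : q.Coprime (Nat.card A) := Nat.coprime_of_lt_prime hA0.ne' (by omega) hq
    rw [← hsum, Nat.coprime_self_add_left] at hcop
    exact hcop.symm
  · intro h
    have hq2 : Odd q := hq.odd_of_ne_two (by omega)
    obtain ⟨k, hk⟩ := hq2
    rw [← hsum, show Nat.card A = Nat.card B from h] at hk
    omega

/-- The pointwise stabiliser of two points is triply transitive on the rest. -/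
theorem pair_step (hΩ : Nat.card Ω = p) (hins : ¬ Group.IsSolvable G) (P : Sylow p G)
    (hN : 2 * Nat.card ↥(Subgroup.normalizer ((P : Subgroup G) : Set G)) = p * (p - 1))
    {q : ℕ} (hq : q.Prime) (hq5 : 5 < q) (hpq : p = q + 2) {a b c d z w : Ω} (hab : a ≠ b)
    (hcd : c ≠ d) (hc : c ≠ a ∧ c ≠ b) (hd : d ≠ a ∧ d ≠ b)
    (hz : z ≠ a ∧ z ≠ b ∧ z ≠ c ∧ z ≠ d) (hw : w ≠ a ∧ w ≠ b ∧ w ≠ c ∧ w ≠ d) :
    ∃ g : G, g • a = a ∧ g • b = b ∧ g • c = c ∧ g • d = d ∧ g • z = w := by
  classical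
  haveI := Fact.mk hq
  have h3 := three G hΩ hins P hN hq hq5 hpq
  have hex3 : ∀ {x y t x' y' t' : Ω}, x ≠ y → x ≠ t → y ≠ t → x' ≠ y' → x' ≠ t' → y' ≠ t' →
      ∃ g : G, g • x = x' ∧ g • y = y' ∧ g • t = t' := by
    intro x y t x' y' t' h1 h2 h3' h1' h2' h3''
    haveI := h3
    obtain ⟨g, hg⟩ := exists_smul_eq G
      (⟨![x, y, t], by intro i j h; fin_cases i <;> fin_cases j <;> simp_all [eq_comm]⟩ : Fin 3 ↪ Ω)
      (⟨![x', y', t'], by intro i j h; fin_cases i <;> fin_cases j <;> simp_all [eq_comm]⟩ : Fin 3 ↪ Ω)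
    exact ⟨g, DFunLike.congr_fun hg 0, DFunLike.congr_fun hg 1, DFunLike.congr_fun hg 2⟩
  let Y := {y : Ω // y ≠ a ∧ y ≠ b}
  let W : Subgroup G :=
    { carrier := {g | (g • a = a ∧ g • b = b) ∨ (g • a = b ∧ g • b = a)}
      one_mem' := Or.inl ⟨one_smul _ _, one_smul _ _⟩
      mul_mem' := by
        intro g h hg hh
        simp only [Set.mem_setOf_eq, mul_smul] at *
        rcases hg with ⟨h1, h2⟩ | ⟨h1, h2⟩ <;> rcases hh with ⟨h3', h4⟩ | ⟨h3', h4⟩ <;>
          simp [h1, h2, h3', h4]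
      inv_mem' := by
        intro g hg
        simp only [Set.mem_setOf_eq, inv_smul_eq_iff] at *
        rcases hg with ⟨h1, h2⟩ | ⟨h1, h2⟩
        · exact Or.inl ⟨h1.symm, h2.symm⟩
        · exact Or.inr ⟨h2.symm, h1.symm⟩ }
  have hmem : ∀ g : W, ∀ y : Ω, ((g : G) : Equiv.Perm Ω) y ≠ a ∧ ((g : G) : Equiv.Perm Ω) y ≠ b ↔
      y ≠ a ∧ y ≠ b := by
    intro g y
    have key : ∀ x x' : Ω, (g : G) • x = x' → ((g : G) • y = x' ↔ y = x) := fun x x' h => by
      rw [← h]; exact smul_left_cancel_iff _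
    change (g : G) • y ≠ a ∧ (g : G) • y ≠ b ↔ _
    rcases g.2 with ⟨h1, h2⟩ | ⟨h1, h2⟩
    · rw [Ne, Ne, key a a h1, key b b h2]
    · rw [Ne, Ne, key b a h2, key a b h1]; exact and_comm
  let φ : W →* Equiv.Perm Y :=
    { toFun := fun g => ((g : G) : Equiv.Perm Ω).subtypePerm (hmem g)
      map_one' := by ext y; rfl
      map_mul' := fun g h => by ext y; rfl }
  have hφ : ∀ (g : W) (y : Y), ((φ g y : Y) : Ω) = (g : G) • (y : Ω) := fun g y => rfl
  have hφinj : Function.Injective φ := by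
    rw [injective_iff_map_eq_one]
    intro g hg
    have hgy : ∀ y : Ω, y ≠ a → y ≠ b → (g : G) • y = y := fun y h1 h2 => by
      have := hφ g ⟨y, h1, h2⟩
      rw [hg] at this
      exact this.symm
    rcases g.2 with ⟨h1, h2⟩ | ⟨h1, h2⟩
    · refine Subtype.ext (Subtype.ext (Equiv.ext fun y => ?_))
      by_cases hya : y = a
      · rw [hya]; exact h1
      by_cases hyb : y = b
      · rw [hyb]; exact h2
      exact hgy y hya hyb
    · exfalso
      refine no_swap G hΩ (by omega) P hN (g : G).2 ⟨a, b, hab, Equiv.ext fun y => ?_⟩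
      rcases eq_or_ne y a with rfl | hya
      · rw [Equiv.swap_apply_left]; exact h1
      rcases eq_or_ne y b with rfl | hyb
      · rw [Equiv.swap_apply_right]; exact h2
      rw [Equiv.swap_apply_of_ne_of_ne hya hyb]; exact hgy y hya hyb
  let S' : Subgroup W := (stabilizer G a).subgroupOf W
  have hS'b : ∀ g : W, g ∈ S' → (g : G) • b = b := by
    intro g hg
    rcases g.2 with ⟨-, h2⟩ | ⟨h1, -⟩
    · exact h2
    · exact absurd ((show (g : G) • a = a from hg).symm.trans h1) hab
  let K : Subgroup (Equiv.Perm Y) := φ.range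
  let K0 : Subgroup (Equiv.Perm Y) := S'.map φ
  have hK0K : K0 ≤ K := fun x ⟨g, _, hg⟩ => ⟨g, hg⟩
  have hcY : Fintype.card Y = q := by
    rw [Fintype.card_subtype]
    have : (Finset.univ.filter fun y : Ω => y ≠ a ∧ y ≠ b) = ({a, b} : Finset Ω)ᶜ := by
      ext y; simp
    rw [this, Finset.card_compl, Finset.card_pair hab, ← Nat.card_eq_fintype_card, hΩ]
    omega
  haveI hK0t : IsPretransitive K0 Y := ⟨fun y y' => by
    obtain ⟨g, h1, h2, h3'⟩ := hex3 hab y.2.1.symm y.2.2.symm hab y'.2.1.symm y'.2.2.symm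
    exact ⟨⟨φ ⟨g, Or.inl ⟨h1, h2⟩⟩, ⟨g, Or.inl ⟨h1, h2⟩⟩, h1, rfl⟩, Subtype.ext h3'⟩⟩
  haveI hKt : IsPretransitive K Y := ⟨fun y y' => by
    obtain ⟨⟨k, hk⟩, h⟩ := exists_smul_eq K0 y y'
    exact ⟨⟨k, hK0K hk⟩, h⟩⟩
  -- the pointwise stabiliser is insoluble
  have hK0ins : ¬ Group.IsSolvable K0 := by
    intro hsol
    haveI := hsol
    have hne : Nonempty Y := Fintype.card_pos_iff.1 (by omega)
    obtain ⟨y0⟩ := hne
    obtain ⟨f', hf'⟩ := card_stabilizer_dvd_of_solvable (G := K0) hq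
      ((Nat.card_eq_fintype_card).trans hcY) y0
    set f := Nat.card ↥(stabilizer K0 y0) with hfdef
    have hK0c : Nat.card K0 = q * f := by
      rw [← Subgroup.index_mul_card (stabilizer K0 y0), index_stabilizer_of_transitive,
        Nat.card_eq_fintype_card, hcY]
    have hS'c : Nat.card K0 = Nat.card ↥(stabilizer G a ⊓ stabilizer G b : Subgroup G) := by
      rw [Subgroup.card_map_of_injective hφinj]
      exact Nat.card_congr
        { toFun := fun g => ⟨((g : W) : G), g.2, hS'b _ g.2⟩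
          invFun := fun g => ⟨⟨(g : G), Or.inl ⟨g.2.1, g.2.2⟩⟩, g.2.1⟩
          left_inv := fun g => rfl
          right_inv := fun g => rfl }
    have hGc : Nat.card G = p * ((p - 1) * (q * f)) := by
      rw [← Subgroup.index_mul_card (stabilizer G a), index_stabilizer_of_transitive, hΩ]
      congr 1
      rw [← card_orbit_mul_card_stab (K := G) a b, ← hK0c, hS'c]
      congr 1
      have ho : orbit ↥(stabilizer G a) b = {y | y ≠ a} := by
        ext y
        constructor
        · rintro ⟨g, rfl⟩ h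
          have h1 : (g : G) • a = a := g.2
          exact hab (MulAction.injective (g : G) (h1.trans h.symm))
        · intro hy
          haveI := h3
          haveI := isMultiplyPretransitive_of_le (G := G) (α := Ω) (m := 2) (n := 3) (by omega)
            (by rw [hΩ]; omega)
          have h2 : IsMultiplyPretransitive G Ω 2 := inferInstance
          obtain ⟨g, h1, h2⟩ := is_two_pretransitive_iff.1 h2 hab (Ne.symm hy)
          exact ⟨⟨g, h1⟩, h2⟩
      rw [Nat.card_coe_set_eq, ho, show ({y | y ≠ a} : Set Ω) = {a}ᶜ from rfl, Set.ncard_compl,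
        Set.ncard_singleton, hΩ]
    have hidx : (Subgroup.normalizer ((P : Subgroup G) : Set G)).index = Nat.card (Sylow p G) :=
      (Sylow.card_eq_index_normalizer P).symm
    have hmul := Subgroup.index_mul_card (Subgroup.normalizer ((P : Subgroup G) : Set G))
    rw [hidx, hGc] at hmul
    have hn : Nat.card (Sylow p G) = 2 * (q * f) := by
      refine Nat.eq_of_mul_eq_mul_right (show 0 < p * (p - 1) from Nat.mul_pos hp.out.pos (by omega)) ?_
      calc Nat.card (Sylow p G) * (p * (p - 1))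
          = 2 * (Nat.card (Sylow p G) *
              Nat.card ↥(Subgroup.normalizer ((P : Subgroup G) : Set G))) := by rw [← hN]; ring
        _ = 2 * (q * f) * (p * (p - 1)) := by rw [hmul]; ring
    have h1 := card_sylow_modEq_one p G
    rw [← ZMod.natCast_eq_natCast_iff, hn] at h1
    push_cast at h1
    have hq2 : (q : ZMod p) = -2 := by
      have : ((q + 2 : ℕ) : ZMod p) = 0 := by rw [← hpq]; exact ZMod.natCast_self p
      push_cast at this
      linear_combination this
    rw [hq2] at h1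
    have h2 : ((4 * f + 1 : ℕ) : ZMod p) = 0 := by push_cast; linear_combination -h1
    rw [ZMod.natCast_eq_zero_iff] at h2
    obtain ⟨k, hk⟩ := h2
    -- `f f' = q - 1`
    have hf0 : 0 < f := Nat.card_pos
    have hk0 : 0 < k := Nat.pos_of_ne_zero fun h => by rw [h, mul_zero] at hk; omega
    have he : f' * (p * k) = 4 * (q - 1) + f' := by rw [← hk, hf']; ring
    have hf'4 : f' ≤ 4 := by
      by_contra hlt
      push Not at hlt
      have h1 : f' * p ≤ f' * (p * k) := Nat.mul_le_mul_left _ (Nat.le_mul_of_pos_right p hk0)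
      have h2 : 5 * (q + 1) ≤ f' * (q + 1) := Nat.mul_le_mul_right _ hlt
      rw [he, hpq, Nat.mul_add] at h1
      rw [Nat.mul_add, Nat.mul_add] at h2
      omega
    have hk4 : k ≤ 3 := by
      by_contra hlt
      push Not at hlt
      have : p * 4 ≤ p * k := Nat.mul_le_mul_left _ hlt
      have : f ≤ q - 1 := Nat.le_of_dvd (by omega) ⟨f', hf'⟩
      omega
    interval_cases f' <;> interval_cases k <;> subst hpq <;>
      first
      | omega
      | (have h9 : q = 9 := by omega
         rw [h9] at hq; norm_num at hq)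
      | (have h7 : q = 7 := by omega
         subst h7; exact absurd hp.out (by norm_num))
  have hKins : ¬ Group.IsSolvable K := fun h => hK0ins (by
    haveI := h
    exact Group.isSolvable_of_isSolvable_injective (f := Subgroup.inclusion hK0K)
      (Subgroup.inclusion_injective hK0K))
  let M : Subgroup K := K0.subgroupOf K
  have hM : ∀ g h : K, g ∉ M → h ∉ M → g * h ∈ M := by
    rintro ⟨_, g, rfl⟩ ⟨_, h, rfl⟩ hg hh
    have key : ∀ x : W, φ x ∉ K0 → (x : G) • a = b ∧ (x : G) • b = a := fun x hx =>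
      x.2.resolve_left fun h' => hx ⟨x, h'.1, rfl⟩
    obtain ⟨g1, g2⟩ := key g hg
    obtain ⟨h1, h2⟩ := key h hh
    refine ⟨g * h, ?_, map_mul φ g h⟩
    show ((g : G) * (h : G)) • a = a
    rw [mul_smul, h1, g2]
  haveI hMn : M.Normal := by
    refine ⟨fun n hn g => ?_⟩
    by_cases hg : g ∈ M
    · exact M.mul_mem (M.mul_mem hg hn) (M.inv_mem hg)
    · refine hM _ _ (fun h => hg ?_) (fun h => hg (by simpa using M.inv_mem h))
      simpa using M.mul_mem h (M.inv_mem hn)
  have hMlt : ∃ g : K, g ∉ M := by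
    obtain ⟨g, hg1, hg2, -⟩ := hex3 hab hc.1.symm hc.2.symm hab.symm hc.2.symm hc.1.symm
    refine ⟨⟨φ ⟨g, Or.inr ⟨hg1, hg2⟩⟩, _, rfl⟩, ?_⟩
    rintro ⟨x, hx, hxe⟩
    have : (x : G) = g := congrArg Subtype.val (hφinj hxe)
    have hxa : (x : G) • a = a := hx
    rw [this, hg1] at hxa
    exact hab hxa.symm
  have hsq : ∀ x : K, Odd (orderOf x) → x ∈ M := by
    rintro x ⟨k, hk⟩
    have h2 : x * x ∈ M := by
      by_cases hx : x ∈ M
      · exact M.mul_mem hx hx
      · exact hM x x hx hx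
    have e : x = (x * x) ^ (k + 1) := by
      rw [← sq, ← pow_mul, show 2 * (k + 1) = orderOf x + 1 by omega, pow_succ, pow_orderOf_eq_one,
        one_mul]
    rw [e]
    exact M.pow_mem h2 _
  let Q : Sylow q K := default
  have hQM : (Q : Subgroup K) ≤ M := by
    intro x hx
    refine hsq x ?_
    obtain ⟨n, hn⟩ := IsPGroup.iff_orderOf.1 Q.2 ⟨x, hx⟩
    rw [Subgroup.orderOf_mk] at hn
    rw [hn]
    exact (hq.odd_of_ne_two (by omega)).pow
  have heven : Even (Nat.card ↥(Subgroup.normalizer ((Q : Subgroup K) : Set K))) := by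
    by_contra hodd
    rw [Nat.not_even_iff_odd] at hodd
    obtain ⟨g, hg⟩ := hMlt
    refine hg ?_
    have htop := Sylow.normalizer_sup_eq_top' Q hQM
    have hle : Subgroup.normalizer ((Q : Subgroup K) : Set K) ⊔ M ≤ M := by
      refine sup_le (fun x hx => hsq x (hodd.of_dvd_nat ?_)) le_rfl
      exact (Subgroup.orderOf_mk x hx) ▸ orderOf_dvd_natCard _
    exact hle (htop.symm ▸ Subgroup.mem_top g)
  have hK3 : IsMultiplyPretransitive K Y 3 := Cfsg.Agent.S0676.result hcY K hKins Q heven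
  -- the stabiliser of `c` and `d`
  let c' : Y := ⟨c, hc⟩
  let d' : Y := ⟨d, hd⟩
  let z' : Y := ⟨z, hz.1, hz.2.1⟩
  let w' : Y := ⟨w, hw.1, hw.2.1⟩
  let L : Subgroup K := stabilizer K c' ⊓ stabilizer K d'
  have hcd' : c' ≠ d' := fun h => hcd (congrArg Subtype.val h)
  have hzc : z' ≠ c' := fun h => hz.2.2.1 (congrArg Subtype.val h)
  have hzd : z' ≠ d' := fun h => hz.2.2.2 (congrArg Subtype.val h)
  have horb : orbit L z' = ({c', d'} : Set Y)ᶜ := by
    ext y
    simp only [Set.mem_compl_iff, Set.mem_insert_iff, Set.mem_singleton_iff, not_or]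
    constructor
    · rintro ⟨l, rfl⟩
      exact ⟨fun h => hzc (MulAction.injective (l : K) (h.trans l.2.1.symm)),
        fun h => hzd (MulAction.injective (l : K) (h.trans l.2.2.symm))⟩
    · rintro ⟨hy1, hy2⟩
      haveI := hK3
      obtain ⟨k, hk⟩ := exists_smul_eq K
        (⟨![c', d', z'], by intro i j h; fin_cases i <;> fin_cases j <;> simp_all [eq_comm]⟩ : Fin 3 ↪ Y)
        (⟨![c', d', y], by intro i j h; fin_cases i <;> fin_cases j <;> simp_all [eq_comm]⟩ : Fin 3 ↪ Y)
      exact ⟨⟨k, DFunLike.congr_fun hk 0, DFunLike.congr_fun hk 1⟩, DFunLike.congr_fun hk 2⟩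
  have hoddorb : Odd (Nat.card (orbit L z')) := by
    rw [Nat.card_coe_set_eq, horb, Set.ncard_compl, Set.ncard_pair hcd', Nat.card_eq_fintype_card,
      hcY]
    obtain ⟨k, hk⟩ := hq.odd_of_ne_two (by omega)
    exact ⟨k - 1, by omega⟩
  have hwmem : w' ∈ orbit L z' := by
    rw [horb]
    simp only [Set.mem_compl_iff, Set.mem_insert_iff, Set.mem_singleton_iff, not_or]
    exact ⟨fun h => hw.2.2.1 (congrArg Subtype.val h), fun h => hw.2.2.2 (congrArg Subtype.val h)⟩
  obtain ⟨⟨⟨_, hx⟩, hxc, hxd⟩, ⟨x, hxa, rfl⟩, hxz⟩ :=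
    orbit_of_index_two (M.subgroupOf L) (fun g h hg hh => hM _ _ hg hh) hoddorb hwmem
  exact ⟨(x : G), hxa, hS'b x hxa, congrArg Subtype.val hxc, congrArg Subtype.val hxd,
    congrArg Subtype.val hxz⟩

/-- Twin prime degree gives five-fold transitivity. -/
theorem five (hΩ : Nat.card Ω = p) (hins : ¬ Group.IsSolvable G) (P : Sylow p G)
    (hN : 2 * Nat.card ↥(Subgroup.normalizer ((P : Subgroup G) : Set G)) = p * (p - 1))
    {q : ℕ} (hq : q.Prime) (hq5 : 5 < q) (hpq : p = q + 2) : IsMultiplyPretransitive G Ω 5 := by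
  classical
  have hc : Fintype.card Ω = p := by rw [← hΩ, Nat.card_eq_fintype_card]
  have hne : ∀ {k : ℕ} (u : Fin k ↪ Ω) {i j : Fin k}, i ≠ j → u i ≠ u j :=
    fun u _ _ hij h => hij (u.injective h)
  have hoff : ∀ {k : ℕ} {u : Fin k ↪ Ω} {z : Ω}, z ∉ Set.range u → ∀ i, z ≠ u i :=
    fun h i e => h ⟨i, e.symm⟩
  have h3 := three G hΩ hins P hN hq hq5 hpq
  have h4 : IsMultiplyPretransitive G Ω 4 := by
    refine succ_pretransitive h3 fun u z w hz hw => ?_
    obtain ⟨d, hd⟩ : ∃ d, d ∉ ({u 0, u 1, u 2, z, w} : Finset Ω) := by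
      by_contra h
      push Not at h
      have h1 := Finset.card_le_card (s := (Finset.univ : Finset Ω))
        (t := ({u 0, u 1, u 2, z, w} : Finset Ω)) fun x _ => h x
      have h2 : ({u 0, u 1, u 2, z, w} : Finset Ω).card ≤ 5 := Finset.card_le_five
      rw [Finset.card_univ, hc] at h1
      omega
    simp only [Finset.mem_insert, Finset.mem_singleton, not_or] at hd
    obtain ⟨g, g0, g1, g2, -, gz⟩ := pair_step G hΩ hins P hN hq hq5 hpq
      (hne u (i := 0) (j := 1) (by decide)) (Ne.symm hd.2.2.1)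
      ⟨hne u (by decide), hne u (by decide)⟩ ⟨hd.1, hd.2.1⟩
      ⟨hoff hz 0, hoff hz 1, hoff hz 2, Ne.symm hd.2.2.2.1⟩
      ⟨hoff hw 0, hoff hw 1, hoff hw 2, Ne.symm hd.2.2.2.2⟩
    exact ⟨g, fun i => by fin_cases i <;> assumption, gz⟩
  refine succ_pretransitive h4 fun u z w hz hw => ?_
  obtain ⟨g, g0, g1, g2, g3, gz⟩ := pair_step G hΩ hins P hN hq hq5 hpq
    (hne u (i := 0) (j := 1) (by decide)) (hne u (i := 2) (j := 3) (by decide))
    ⟨hne u (by decide), hne u (by decide)⟩ ⟨hne u (by decide), hne u (by decide)⟩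
    ⟨hoff hz 0, hoff hz 1, hoff hz 2, hoff hz 3⟩ ⟨hoff hw 0, hoff hw 1, hoff hw 2, hoff hw 3⟩
  exact ⟨g, fun i => by fin_cases i <;> assumption, gz⟩

end CfsgLib.Perm.NeumannTwin
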